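import Mathlib

/-! The constructible topology of a quasi-separated, prespectral, quasi-sober space. -/

set_option autoImplicit false
universe u

open Topology TopologicalSpace

namespace Groth.Agent.ConsTop

variable {X : Type u} [TopologicalSpace X]

theorem isOpen_compl_of_isCompact {W : Set X} (hW : IsOpen W) (hWc : IsCompact W) :
    IsOpen[constructibleTopology X] Wᶜ :=
  IsCompact.isOpen_constructibleTopology_of_isClosed (by simpa) hW.isClosed_compl

theorem isOpen_cons_of_isOpen [PrespectralSpace X] {U : Set X} (hU : IsOpen U) :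
    IsOpen[constructibleTopology X] U := by
  obtain ⟨S, hS, rfl⟩ := PrespectralSpace.isTopologicalBasis.open_eq_sUnion hU
  exact @isOpen_sUnion X (constructibleTopology X) _ fun t ht =>
    (hS ht).2.isOpen_constructibleTopology_of_isOpen (hS ht).1

theorem isCompact_of_isCompact_cons [PrespectralSpace X] {K : Set X}
    (hK : @IsCompact X (constructibleTopology X) K) : IsCompact K := by
  have hc : @Continuous X X (constructibleTopology X) ‹_› id :=
    continuous_def.mpr fun s hs => isOpen_cons_of_isOpen hs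
  simpa using @IsCompact.image X X (constructibleTopology X) ‹_› K id hK hc

variable [PrespectralSpace X] [QuasiSeparatedSpace X]

theorem isClopen_of_isConstructible {s : Set X} (hs : IsConstructible s) :
    IsOpen[constructibleTopology X] s ∧ IsOpen[constructibleTopology X] sᶜ := by
  induction hs using IsConstructible.empty_union_induction with
  | open_retrocompact U hUo hUr =>
    refine ⟨isOpen_cons_of_isOpen hUo, ?_⟩
    obtain ⟨S, hS, hSeq⟩ := PrespectralSpace.isTopologicalBasis.open_eq_sUnion (isOpen_univ (X := X))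
    have : Uᶜ = ⋃₀ ((fun W => W ∩ (U ∩ W)ᶜ) '' S) := by
      ext x
      simp only [Set.sUnion_image, Set.mem_iUnion, Set.mem_inter_iff, Set.mem_compl_iff, exists_prop]
      refine ⟨fun hx => ?_, fun ⟨W, _, hxW, h⟩ hxU => h ⟨hxU, hxW⟩⟩
      obtain ⟨W, hW, hxW⟩ := hSeq.le (Set.mem_univ x)
      exact ⟨W, hW, hxW, fun h => hx h.1⟩
    rw [this]
    refine @isOpen_sUnion X (constructibleTopology X) _ ?_
    rintro _ ⟨W, hW, rfl⟩
    exact @IsOpen.inter X (constructibleTopology X) _ _ ((hS hW).2.isOpen_constructibleTopology_of_isOpen (hS hW).1)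
      (isOpen_compl_of_isCompact (hUo.inter (hS hW).1) (hUr (hS hW).2 (hS hW).1))
  | union s _ t _ hs ht =>
    refine ⟨@IsOpen.union X _ _ (constructibleTopology X) hs.1 ht.1, ?_⟩
    rw [Set.compl_union]
    exact @IsOpen.inter X (constructibleTopology X) _ _ hs.2 ht.2
  | compl s _ hs => exact ⟨hs.2, by rw [compl_compl]; exact hs.1⟩

theorem isClopen_of_isLocallyConstructible {s : Set X} (hs : IsLocallyConstructible s) :
    IsOpen[constructibleTopology X] s ∧ IsOpen[constructibleTopology X] sᶜ := by
  obtain ⟨S, hS, hSeq⟩ := PrespectralSpace.isTopologicalBasis.open_eq_sUnion (isOpen_univ (X := X))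
  have key : ∀ T : Set X, (∀ W ∈ S, IsOpen[constructibleTopology X] (T ∩ W)) →
      IsOpen[constructibleTopology X] T := by
    intro T hT
    have : T = ⋃₀ ((fun W => T ∩ W) '' S) := by
      rw [Set.sUnion_image, ← Set.inter_iUnion₂, ← Set.sUnion_eq_biUnion, ← hSeq, Set.inter_univ]
    rw [this]
    exact @isOpen_sUnion X (constructibleTopology X) _ (by rintro _ ⟨W, hW, rfl⟩; exact hT W hW)
  have hc : ∀ W ∈ S, IsConstructible (s ∩ W) := fun W hW =>
    hs.inter_of_isOpen_isCompact (hS hW).1 (hS hW).2
  refine ⟨key s fun W hW => (isClopen_of_isConstructible (hc W hW)).1, key sᶜ fun W hW => ?_⟩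
  have : sᶜ ∩ W = (s ∩ W)ᶜ ∩ W := by
    ext x
    simp only [Set.mem_inter_iff, Set.mem_compl_iff]
    tauto
  rw [this]
  exact @IsOpen.inter X (constructibleTopology X) _ _ (isClopen_of_isConstructible (hc W hW)).2
    (isOpen_cons_of_isOpen (hS hW).1)

theorem isCompact_cons [QuasiSober X] {W : Set X} (hW : IsOpen W) (hWc : IsCompact W) :
    @IsCompact X (constructibleTopology X) W := by
  haveI : CompactSpace ↥W := isCompact_iff_compactSpace.mp hWc
  have he := hW.isOpenEmbedding_subtypeVal
  haveI : QuasiSober ↥W := he.quasiSober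
  haveI : QuasiSeparatedSpace ↥W := he.quasiSeparatedSpace
  haveI : PrespectralSpace ↥W := he.prespectralSpace
  have hc : @Continuous ↥W X (constructibleTopology ↥W) (constructibleTopology X) Subtype.val := by
    refine continuous_generateFrom_iff.mpr fun s hs => ?_
    rcases hs with ⟨hso, hsc⟩ | ⟨hsc, hsc'⟩
    · refine IsCompact.isOpen_constructibleTopology_of_isOpen ?_ (hso.preimage continuous_subtype_val)
      rw [he.isInducing.isCompact_iff, Subtype.image_preimage_coe]
      exact hWc.inter_of_isOpen hsc hW hso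
    · refine IsCompact.isOpen_constructibleTopology_of_isClosed ?_ (hsc.preimage continuous_subtype_val)
      rw [← Set.preimage_compl, he.isInducing.isCompact_iff, Subtype.image_preimage_coe]
      exact hWc.inter_of_isOpen hsc' hW hsc.isOpen_compl
  have hcs : @CompactSpace ↥W (constructibleTopology ↥W) :=
    @CompactSpace.mk ↥W (constructibleTopology ↥W) (by
      have h := @IsCompact.image (WithConstructibleTopology ↥W) ↥W _ (constructibleTopology ↥W) Set.univ _
        isCompact_univ (WithTopology.continuous_ofTopology _)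
      rwa [Set.image_univ, (WithTopology.ofTopology_surjective _).range_eq] at h)
  have := @IsCompact.image ↥W X (constructibleTopology ↥W) (constructibleTopology X) Set.univ _
    hcs.isCompact_univ hc
  rwa [Set.image_univ, Subtype.range_coe] at this

theorem isConstructible_inter_of_isClopen [QuasiSober X] {E W : Set X}
    (hE : IsOpen[constructibleTopology X] E) (hE' : IsOpen[constructibleTopology X] Eᶜ)
    (hW : IsOpen W) (hWc : IsCompact W) : IsConstructible (E ∩ W) := by
  classical
  have hWcons := isCompact_cons hW hWc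
  have hEW : @IsCompact X (constructibleTopology X) (E ∩ W) :=
    @IsCompact.inter_left X (constructibleTopology X) E W hWcons
      (@isOpen_compl_iff X E (constructibleTopology X) |>.mp hE')
  have hbasis := @isTopologicalBasis_of_subbasis X (constructibleTopology X) _ rfl
  have hsub : ∀ B ∈ constructibleTopologySubbasis X, IsConstructible (B ∩ W) := by
    rintro B (⟨hBo, hBc⟩ | ⟨hBc, hBc'⟩)
    · exact (hBc.isConstructible hBo).inter (hWc.isConstructible hW)
    · have : IsConstructible B := by
        simpa using (hBc'.isConstructible hBc.isOpen_compl).compl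
      exact this.inter (hWc.isConstructible hW)
  choose f hf hxf hfE using fun x : ↥(E ∩ W) =>
    @IsTopologicalBasis.exists_subset_of_mem_open X (constructibleTopology X) _ hbasis x.1 E x.2.1 hE
  obtain ⟨t, ht⟩ := @IsCompact.elim_finite_subcover X (constructibleTopology X) _ _ hEW f
    (fun x => @IsTopologicalBasis.isOpen X (constructibleTopology X) _ _ hbasis (hf x))
    (fun x hx => Set.mem_iUnion.mpr ⟨⟨x, hx⟩, hxf ⟨x, hx⟩⟩)
  have : E ∩ W = ⋃ x ∈ t, f x ∩ W := by
    refine Set.Subset.antisymm (fun y hy => ?_) (Set.iUnion₂_subset fun x _ => Set.inter_subset_inter_left _ (hfE x))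
    obtain ⟨x, hx, hyx⟩ := Set.mem_iUnion₂.mp (ht hy)
    exact Set.mem_biUnion hx ⟨hyx, hy.2⟩
  rw [this]
  refine IsConstructible.biUnion t.finite_toSet fun x _ => ?_
  obtain ⟨F, ⟨hFfin, hFs⟩, hFx⟩ := hf x
  rw [← hFx]
  have : ⋂₀ F ∩ W = W ∩ ⋂ B ∈ F, (B ∩ W) := by
    ext y
    simp only [Set.mem_inter_iff, Set.mem_sInter, Set.mem_iInter]
    exact ⟨fun h => ⟨h.2, fun B hB => ⟨h.1 B hB, h.2⟩⟩, fun h => ⟨fun B hB => (h.2 B hB).1, h.1⟩⟩
  rw [this]
  exact (hWc.isConstructible hW).inter (IsConstructible.biInter hFfin fun B hB => hsub B (hFs hB))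

theorem isLocallyConstructible_of_isClopen [QuasiSober X] {E : Set X}
    (hE : IsOpen[constructibleTopology X] E) (hE' : IsOpen[constructibleTopology X] Eᶜ) :
    IsLocallyConstructible E := by
  intro x
  obtain ⟨W, ⟨hW, hWc⟩, hxW, -⟩ :=
    PrespectralSpace.isTopologicalBasis.exists_subset_of_mem_open (Set.mem_univ x) isOpen_univ
  refine ⟨W, hW.mem_nhds hxW, hW, ?_⟩
  have h := (isConstructible_inter_of_isClopen hE hE' hW hWc).preimage_of_isOpenEmbedding
    hW.isOpenEmbedding_subtypeVal
  convert h using 1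
  ext ⟨y, hy⟩
  simp [hy]

theorem t2Space_cons [T0Space X] : @T2Space X (constructibleTopology X) := by
  refine @T2Space.mk X (constructibleTopology X) fun x y hxy => ?_
  have sep : ∀ a b : X, ∀ U : Set X, IsOpen U → a ∈ U → b ∉ U →
      ∃ u v : Set X, IsOpen[constructibleTopology X] u ∧ IsOpen[constructibleTopology X] v ∧
        a ∈ u ∧ b ∈ v ∧ Disjoint u v := by
    intro a b U hU ha hb
    obtain ⟨W, ⟨hW, hWc⟩, haW, hWU⟩ :=
      PrespectralSpace.isTopologicalBasis.exists_subset_of_mem_open ha hU
    exact ⟨W, Wᶜ, hWc.isOpen_constructibleTopology_of_isOpen hW, isOpen_compl_of_isCompact hW hWc,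
      haW, fun h => hb (hWU h), disjoint_compl_right⟩
  obtain ⟨U, hU, hxor⟩ := exists_isOpen_xor_mem hxy
  rcases hxor with ⟨hx, hy⟩ | ⟨hy, hx⟩
  · exact sep x y U hU hx hy
  · obtain ⟨u, v, hu, hv, h1, h2, h3⟩ := sep y x U hU hy hx
    exact ⟨v, u, hv, hu, h2, h1, h3.symm⟩

theorem weaklyLocallyCompactSpace_cons [QuasiSober X] :
    @WeaklyLocallyCompactSpace X (constructibleTopology X) := by
  refine @WeaklyLocallyCompactSpace.mk X (constructibleTopology X) fun x => ?_
  obtain ⟨W, ⟨hW, hWc⟩, hxW, -⟩ :=
    PrespectralSpace.isTopologicalBasis.exists_subset_of_mem_open (Set.mem_univ x) isOpen_univ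
  exact ⟨W, isCompact_cons hW hWc,
    @IsOpen.mem_nhds X (constructibleTopology X) _ _ (hWc.isOpen_constructibleTopology_of_isOpen hW) hxW⟩

theorem totallySeparatedSpace_cons [T0Space X] :
    @TotallySeparatedSpace X (constructibleTopology X) := by
  refine @TotallySeparatedSpace.mk X (constructibleTopology X) fun x _ y _ hxy => ?_
  have sep : ∀ a b : X, ∀ U : Set X, IsOpen U → a ∈ U → b ∉ U →
      ∃ W : Set X, IsOpen[constructibleTopology X] W ∧ IsOpen[constructibleTopology X] Wᶜ ∧
        a ∈ W ∧ b ∉ W := by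
    intro a b U hU ha hb
    obtain ⟨W, ⟨hW, hWc⟩, haW, hWU⟩ :=
      PrespectralSpace.isTopologicalBasis.exists_subset_of_mem_open ha hU
    exact ⟨W, hWc.isOpen_constructibleTopology_of_isOpen hW, isOpen_compl_of_isCompact hW hWc,
      haW, fun h => hb (hWU h)⟩
  obtain ⟨U, hU, hxor⟩ := exists_isOpen_xor_mem hxy
  rcases hxor with ⟨hx, hy⟩ | ⟨hy, hx⟩
  · obtain ⟨W, h1, h2, h3, h4⟩ := sep x y U hU hx hy
    exact ⟨W, Wᶜ, h1, h2, h3, h4, (Set.union_compl_self W).ge, disjoint_compl_right⟩
  · obtain ⟨W, h1, h2, h3, h4⟩ := sep y x U hU hy hx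
    exact ⟨Wᶜ, W, h2, h1, h4, h3, (Set.compl_union_self W).ge, disjoint_compl_left⟩

end Groth.Agent.ConsTop
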