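import Mathlib
import Groth.Prelude.Def_ProCons
import Groth.Agent.ConsTop.Basic

/-! Constructible topology: functoriality, and pro/ind-constructible subsets of schemes. -/

set_option autoImplicit false
universe u v

open Topology TopologicalSpace AlgebraicGeometry CategoryTheory

namespace Groth.Agent.ConsTop

variable {X : Type u} [TopologicalSpace X] {Y : Type v} [TopologicalSpace Y]

theorem continuous_cons (g : Y → X) (hg : Continuous g)
    (hqc : ∀ U : Set X, IsOpen U → IsCompact U → IsCompact (g ⁻¹' U)) :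
    @Continuous Y X (constructibleTopology Y) (constructibleTopology X) g := by
  refine continuous_generateFrom_iff.mpr fun s hs => ?_
  rcases hs with ⟨hso, hsc⟩ | ⟨hsc, hsc'⟩
  · exact (hqc s hso hsc).isOpen_constructibleTopology_of_isOpen (hso.preimage hg)
  · refine IsCompact.isOpen_constructibleTopology_of_isClosed ?_ (hsc.preimage hg)
    rw [← Set.preimage_compl]
    exact hqc _ hsc.isOpen_compl hsc'

theorem isOpen_image_cons [PrespectralSpace X] [CompactSpace Y] {e : Y → X} (he : IsOpenEmbedding e)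
    {s : Set Y} (hs : IsOpen[constructibleTopology Y] s) :
    IsOpen[constructibleTopology X] (e '' s) := by
  have hr : IsOpen[constructibleTopology X] (Set.range e) :=
    (isCompact_range he.continuous).isOpen_constructibleTopology_of_isOpen he.isOpen_range
  induction hs with
  | basic s hs =>
    rcases hs with ⟨hso, hsc⟩ | ⟨hsc, hsc'⟩
    · exact (hsc.image he.continuous).isOpen_constructibleTopology_of_isOpen (he.isOpenMap _ hso)
    · have h2 : e '' s = Set.range e ∩ (e '' sᶜ)ᶜ := by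
        ext x
        constructor
        · rintro ⟨y, hy, rfl⟩
          exact ⟨⟨y, rfl⟩, fun ⟨z, hz, hzy⟩ => hz (he.injective hzy ▸ hy)⟩
        · rintro ⟨⟨y, rfl⟩, hn⟩
          exact ⟨y, by_contra fun h => hn ⟨y, h, rfl⟩, rfl⟩
      rw [h2]
      refine @IsOpen.inter X (constructibleTopology X) _ _ hr ?_
      refine IsCompact.isOpen_constructibleTopology_of_isClosed ?_ (he.isOpenMap _ hsc.isOpen_compl).isClosed_compl
      rw [compl_compl]
      exact hsc'.image he.continuous
  | univ => simpa using hr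
  | inter s t _ _ hs ht =>
    rw [Set.image_inter he.injective]
    exact @IsOpen.inter X (constructibleTopology X) _ _ hs ht
  | sUnion S _ ih =>
    rw [Set.image_sUnion]
    exact @isOpen_sUnion X (constructibleTopology X) _ (by rintro _ ⟨t, ht, rfl⟩; exact ih t ht)

theorem isLocallyConstructible_compl {T : Set X} (hT : IsLocallyConstructible T) :
    IsLocallyConstructible Tᶜ := fun x => by
  obtain ⟨U, hx, hU, h⟩ := hT x
  exact ⟨U, hx, hU, by simpa only [Set.preimage_compl] using isConstructible_compl.mpr h⟩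

theorem isProConstructible_iff_indCons_compl {E : Set X} :
    ProCons.IsProConstructible E ↔ ProCons.IsIndConstructible Eᶜ := by
  constructor
  · intro h x
    obtain ⟨U, hU, hxU, S, hS, he⟩ := h x
    refine ⟨U, hU, hxU, compl '' S, ?_, ?_⟩
    · rintro _ ⟨T, hT, rfl⟩
      exact isLocallyConstructible_compl (hS T hT)
    · rw [Set.preimage_compl, he, Set.compl_sInter]
  · intro h x
    obtain ⟨U, hU, hxU, S, hS, he⟩ := h x
    refine ⟨U, hU, hxU, compl '' S, ?_, ?_⟩
    · rintro _ ⟨T, hT, rfl⟩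
      exact isLocallyConstructible_compl (hS T hT)
    · rw [← Set.compl_sUnion, ← he, Set.preimage_compl, compl_compl]

variable [PrespectralSpace X] [QuasiSeparatedSpace X]

theorem isConstructible_of_mem_subbasis {B : Set X} (hB : B ∈ constructibleTopologySubbasis X) :
    IsConstructible B := by
  rcases hB with ⟨hBo, hBc⟩ | ⟨hBc, hBc'⟩
  · exact hBc.isConstructible hBo
  · simpa using (hBc'.isConstructible hBc.isOpen_compl).compl

theorem exists_isConstructible_subset {E : Set X} (hE : IsOpen[constructibleTopology X] E)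
    {z : X} (hz : z ∈ E) : ∃ B : Set X, IsConstructible B ∧ z ∈ B ∧ B ⊆ E := by
  obtain ⟨B, ⟨F, ⟨hF, hFs⟩, rfl⟩, hzB, hBE⟩ :=
    @IsTopologicalBasis.exists_subset_of_mem_open X (constructibleTopology X) _
      (@isTopologicalBasis_of_subbasis X (constructibleTopology X) _ rfl) z E hz hE
  exact ⟨_, IsConstructible.sInter hF fun s hs => isConstructible_of_mem_subbasis (hFs hs), hzB, hBE⟩

theorem eq_sInter_isConstructible {E : Set X} (hE : IsOpen[constructibleTopology X] Eᶜ) :
    E = ⋂₀ {s | IsConstructible s ∧ E ⊆ s} := by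
  refine Set.Subset.antisymm (Set.subset_sInter fun s hs => hs.2) fun z hz => by_contra fun hzE => ?_
  obtain ⟨B, hB, hzB, hBE⟩ := exists_isConstructible_subset hE hzE
  exact hz Bᶜ ⟨isConstructible_compl.mpr hB, fun y hy hyB => hBE hyB hy⟩ hzB

theorem isOpen_cons_compl_sInter {S : Set (Set X)} (hS : ∀ s ∈ S, IsConstructible s) :
    IsOpen[constructibleTopology X] (⋂₀ S)ᶜ := by
  rw [Set.compl_sInter]
  exact @isOpen_sUnion X (constructibleTopology X) _ (by rintro _ ⟨s, hs, rfl⟩; exact (isClopen_of_isConstructible (hS s hs)).2)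

section Scheme

variable {Z : Scheme.{u}}

theorem affine_instances {W : Z.Opens} (hW : IsAffineOpen W) :
    CompactSpace ↥(W : Set Z) ∧ QuasiSeparatedSpace ↥(W : Set Z) ∧ QuasiSober ↥(W : Set Z) ∧
      PrespectralSpace ↥(W : Set Z) :=
  ⟨isCompact_iff_compactSpace.mp hW.isCompact,
    (isQuasiSeparated_iff_quasiSeparatedSpace _ W.2).mp hW.isQuasiSeparated,
    W.2.isOpenEmbedding_subtypeVal.quasiSober, W.2.isOpenEmbedding_subtypeVal.prespectralSpace⟩

theorem indCons_iff_affine {E : Set Z} :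
    ProCons.IsIndConstructible E ↔ ∀ W : Z.Opens, IsAffineOpen W →
      @IsOpen _ (constructibleTopology ↥(W : Set Z)) (Subtype.val ⁻¹' E) := by
  constructor
  · intro hE W hW
    obtain ⟨_, _, _, _⟩ := affine_instances hW
    refine (@isOpen_iff_forall_mem_open _ (constructibleTopology ↥(W : Set Z)) _).mpr fun z hz => ?_
    obtain ⟨V, hV, hzV, S, hS, he⟩ := hE z.1
    obtain ⟨T, hT, hzT⟩ : ∃ T ∈ S, (⟨z.1, hzV⟩ : ↥V) ∈ T :=
      Set.mem_sUnion.mp ((Set.ext_iff.mp he ⟨z.1, hzV⟩).mp hz)
    obtain ⟨W', hW', hzW', hsub⟩ := exists_isAffineOpen_mem_and_subset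
      (U := (⟨V ∩ (W : Set Z), hV.inter W.2⟩ : Z.Opens)) (⟨hzV, z.2⟩ : z.1 ∈ V ∩ (W : Set Z))
    obtain ⟨_, _, _, _⟩ := affine_instances hW'
    have hi : (W' : Set Z) ⊆ (W : Set Z) := fun a ha => (hsub ha).2
    have hiV : (W' : Set Z) ⊆ V := fun a ha => (hsub ha).1
    have he1 : IsOpenEmbedding (Set.inclusion hi) :=
      .of_comp _ W.2.isOpenEmbedding_subtypeVal W'.2.isOpenEmbedding_subtypeVal
    have he2 : IsOpenEmbedding (Set.inclusion hiV) :=
      .of_comp _ hV.isOpenEmbedding_subtypeVal W'.2.isOpenEmbedding_subtypeVal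
    refine ⟨Set.inclusion hi '' (Set.inclusion hiV ⁻¹' T), ?_, isOpen_image_cons he1
      (isClopen_of_isLocallyConstructible ((hS T hT).preimage_of_isOpenEmbedding he2)).1,
      ⟨⟨z.1, hzW'⟩, hzT, rfl⟩⟩
    rintro _ ⟨a, ha, rfl⟩
    exact (Set.ext_iff.mp he _).mpr (Set.mem_sUnion.mpr ⟨T, hT, ha⟩)
  · intro h x
    obtain ⟨W, hW, hxW, -⟩ := exists_isAffineOpen_mem_and_subset (U := (⊤ : Z.Opens)) (Opens.mem_top x)
    obtain ⟨_, _, _, _⟩ := affine_instances hW
    refine ⟨W, W.2, hxW, {T | IsLocallyConstructible T ∧ T ⊆ Subtype.val ⁻¹' E}, fun T hT => hT.1, ?_⟩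
    refine Set.Subset.antisymm (fun z hz => ?_) (Set.sUnion_subset fun T hT => hT.2)
    obtain ⟨B, hB, hzB, hBE⟩ := exists_isConstructible_subset (h W hW) hz
    exact ⟨B, ⟨hB.isLocallyConstructible, hBE⟩, hzB⟩

theorem proCons_iff_affine {E : Set Z} :
    ProCons.IsProConstructible E ↔ ∀ W : Z.Opens, IsAffineOpen W →
      @IsClosed _ (constructibleTopology ↥(W : Set Z)) (Subtype.val ⁻¹' E) := by
  rw [isProConstructible_iff_indCons_compl, indCons_iff_affine]
  exact forall₂_congr fun W _ =>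
    ⟨fun h => @IsClosed.mk _ (constructibleTopology ↥(W : Set Z)) _ h, fun h => h.1⟩

theorem isProConstructible_univ : ProCons.IsProConstructible (Set.univ : Set Z) :=
  proCons_iff_affine.mpr fun W _ => @isClosed_univ _ (constructibleTopology ↥(W : Set Z))

theorem isOpen_cons_of_indCons [QuasiSeparatedSpace Z] {E : Set Z}
    (hE : ProCons.IsIndConstructible E) : IsOpen[constructibleTopology Z] E := by
  refine (@isOpen_iff_forall_mem_open _ (constructibleTopology Z) _).mpr fun z hz => ?_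
  obtain ⟨W, hW, hzW, -⟩ := exists_isAffineOpen_mem_and_subset (U := (⊤ : Z.Opens)) (Opens.mem_top z)
  obtain ⟨_, _, _, _⟩ := affine_instances hW
  exact ⟨_, Set.image_preimage_subset _ _,
    isOpen_image_cons W.2.isOpenEmbedding_subtypeVal (indCons_iff_affine.mp hE W hW), ⟨⟨z, hzW⟩, hz, rfl⟩⟩

theorem continuous_cons_resLE {Z' : Scheme.{u}} (f : Z' ⟶ Z) {W : Z.Opens} (hW : IsAffineOpen W)
    {V : Z'.Opens} (hV : IsAffineOpen V) (e : V ≤ f ⁻¹ᵁ W) :
    @Continuous ↥(V : Set Z') ↥(W : Set Z) (constructibleTopology _) (constructibleTopology _)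
      (fun x => ⟨f x.1, e x.2⟩) := by
  haveI : IsAffine W.toScheme := hW
  haveI : CompactSpace V.toScheme := isCompact_iff_compactSpace.mp hV.isCompact
  haveI : QuasiCompact (f.resLE W V e) := HasAffineProperty.iff_of_isAffine.mpr ‹_›
  have h : ⇑(f.resLE W V e) = fun x : ↥(V : Set Z') => (⟨f x.1, e x.2⟩ : ↥(W : Set Z)) :=
    funext fun x => Subtype.ext (f.coe_resLE_apply (e := e) x)
  refine continuous_cons _ ((f.continuous.comp continuous_subtype_val).subtype_mk _) fun U hU hUc => ?_
  have := (f.resLE W V e).isCompact_preimage (U := ⟨U, hU⟩) hUc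
  exact h ▸ this

theorem exists_ringHom_range_eq {A : Type u} [CommRing A] {E : Set (PrimeSpectrum A)}
    (hE : IsOpen[constructibleTopology (PrimeSpectrum A)] Eᶜ) :
    ∃ (B : Type u) (_ : CommRing B) (f : A →+* B), Set.range (PrimeSpectrum.comap f) = E := by
  classical
  let f : A →+* ((p : E) → p.1.asIdeal.ResidueField) :=
    RingHom.pi fun p => algebraMap A p.1.asIdeal.ResidueField
  refine ⟨_, inferInstance, f, Set.Subset.antisymm ?_ fun p hp => ?_⟩
  · rintro _ ⟨P, rfl⟩
    by_contra hq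
    obtain ⟨B0, hB0, hqB, hBE⟩ := exists_isConstructible_subset hE hq
    obtain ⟨S, rfl⟩ := PrimeSpectrum.exists_constructibleSetData_iff.mpr hB0
    obtain ⟨C, hC, hqC⟩ := Set.mem_iUnion₂.mp hqB
    have hdis : ∀ p : E, algebraMap A p.1.asIdeal.ResidueField C.f ≠ 0 →
        ∃ i, algebraMap A p.1.asIdeal.ResidueField (C.g i) ≠ 0 := by
      intro p hfp
      by_contra! hg
      refine hBE (Set.mem_biUnion hC ?_) p.2
      simp only [Ideal.algebraMap_residueField_eq_zero] at hg
      refine ⟨?_, fun h => hfp (Ideal.algebraMap_residueField_eq_zero.mpr (h rfl))⟩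
      rintro _ ⟨i, rfl⟩
      exact hg i
    choose i hi using hdis
    let c : Fin C.n → (p : E) → p.1.asIdeal.ResidueField := fun j p =>
      if h : algebraMap A p.1.asIdeal.ResidueField C.f ≠ 0 then
        if i p h = j then algebraMap A _ C.f / algebraMap A _ (C.g j) else 0
      else 0
    have hsum : f C.f = ∑ j, f (C.g j) * c j := by
      funext p
      simp only [Finset.sum_apply, Pi.mul_apply, c, f, RingHom.pi_apply]
      by_cases h : algebraMap A p.1.asIdeal.ResidueField C.f = 0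
      · simp [h]
      · simp [h, mul_div_cancel₀ _ (hi p h)]
    have hfP : f C.f ∈ P.asIdeal := by
      rw [hsum]
      refine Ideal.sum_mem _ fun j _ => Ideal.mul_mem_right _ _ ?_
      exact hqC.1 ⟨j, rfl⟩
    exact hqC.2 (by rintro _ rfl; exact hfP)
  · refine ⟨⟨RingHom.ker (Pi.evalRingHom (fun p : E => p.1.asIdeal.ResidueField) ⟨p, hp⟩),
      RingHom.ker_isPrime _⟩, ?_⟩
    apply PrimeSpectrum.ext
    apply Ideal.ext
    intro a
    exact Ideal.algebraMap_residueField_eq_zero

theorem exists_affine_range_eq [CompactSpace Z] [QuasiSeparatedSpace Z] {E : Set Z}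
    (hE : IsOpen[constructibleTopology Z] Eᶜ) :
    ∃ (X' : Scheme.{u}) (f : X' ⟶ Z), IsAffine X' ∧ Set.range f.base = E := by
  classical
  obtain ⟨t, ht⟩ := isCompact_univ.elim_finite_subcover (fun W : Z.affineOpens => (W.1 : Set Z))
    (fun W => W.1.2) (fun x _ => by
      obtain ⟨W, hW, hxW, -⟩ := exists_isAffineOpen_mem_and_subset (U := (⊤ : Z.Opens)) (Opens.mem_top x)
      exact Set.mem_iUnion.mpr ⟨⟨W, hW⟩, hxW⟩)
  have key : ∀ W : t, ∃ (B : CommRingCat.{u}) (g : Spec B ⟶ Z), Set.range g.base = E ∩ W.1.1 := by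
    intro W
    have hW : IsAffineOpen W.1.1 := W.1.2
    have hr := hW.range_fromSpec
    have hc : @Continuous (Spec Γ(Z, W.1.1)) Z (constructibleTopology _) (constructibleTopology _)
        hW.fromSpec := by
      refine continuous_cons _ hW.fromSpec.continuous fun U hU hUc => ?_
      rw [hW.fromSpec.isOpenEmbedding.isInducing.isCompact_iff, Set.image_preimage_eq_inter_range, hr]
      exact hUc.inter_of_isOpen hW.isCompact hU W.1.1.2
    obtain ⟨B, _, φ, hφ⟩ := exists_ringHom_range_eq (A := Γ(Z, W.1.1))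
      (E := hW.fromSpec ⁻¹' E) (@IsOpen.preimage _ _ (constructibleTopology _) (constructibleTopology _) _ hc _ hE)
    refine ⟨.of B, Spec.map (CommRingCat.ofHom φ) ≫ hW.fromSpec, ?_⟩
    have h2 : ∀ (B : CommRingCat.{u}) (m : Spec B ⟶ Spec Γ(Z, W.1.1)),
        Set.range (m ≫ hW.fromSpec) = hW.fromSpec '' Set.range m := fun B m => by
      rw [← Set.range_comp]; rfl
    refine (h2 _ _).trans ((congrArg (hW.fromSpec '' ·) hφ).trans ?_)
    exact Set.image_preimage_eq_inter_range.trans (congrArg (E ∩ ·) hr)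
  choose B g hg using key
  refine ⟨∐ fun W : t => Spec (B W), Limits.Sigma.desc g, inferInstance, ?_⟩
  ext z
  constructor
  · rintro ⟨a, rfl⟩
    obtain ⟨W, b, rfl⟩ : ∃ (W : t) (b : Spec (B W)), Limits.Sigma.ι (fun W : t => Spec (B W)) W b = a :=
      (sigmaOpenCover _).exists_eq a
    rw [← Scheme.Hom.comp_apply, Limits.Sigma.ι_desc]
    exact ((hg W).le ⟨b, rfl⟩).1
  · intro hz
    obtain ⟨W, hW, hzW⟩ := Set.mem_iUnion₂.mp (ht (Set.mem_univ z))
    obtain ⟨b, hb⟩ := (hg ⟨W, hW⟩).ge ⟨hz, hzW⟩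
    refine ⟨Limits.Sigma.ι (fun W : t => Spec (B W)) ⟨W, hW⟩ b, ?_⟩
    rw [← Scheme.Hom.comp_apply, Limits.Sigma.ι_desc]
    exact hb

end Scheme

end Groth.Agent.ConsTop
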