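import Groth.Agent.ConsTop.Maps

/-! Constructibility descends along surjective morphisms. -/

set_option autoImplicit false
universe u

open Topology TopologicalSpace AlgebraicGeometry CategoryTheory

namespace Groth.Agent.ConsTop

variable {X Y : Scheme.{u}}

theorem indCons_preimage (f : X ⟶ Y) {E : Set Y} (hE : ProCons.IsIndConstructible E) :
    ProCons.IsIndConstructible (f ⁻¹' E) := by
  intro x
  obtain ⟨W, hW, hxW, -⟩ := exists_isAffineOpen_mem_and_subset (U := (⊤ : Y.Opens)) (Opens.mem_top (f x))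
  obtain ⟨V, hV, hxV, e⟩ := exists_isAffineOpen_mem_and_subset (U := f ⁻¹ᵁ W) (x := x) hxW
  obtain ⟨_, _, _, _⟩ := affine_instances hV
  refine ⟨V, V.2, hxV, {T | IsLocallyConstructible T ∧ T ⊆ Subtype.val ⁻¹' (f ⁻¹' E)}, fun T hT => hT.1, ?_⟩
  refine Set.Subset.antisymm (fun z hz => ?_) (Set.sUnion_subset fun T hT => hT.2)
  have ho : IsOpen[constructibleTopology ↥(V : Set X)] (Subtype.val ⁻¹' (f ⁻¹' E) : Set ↥(V : Set X)) :=
    @IsOpen.preimage _ _ (constructibleTopology _) (constructibleTopology _) _ (continuous_cons_resLE f hW hV e) _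
      (indCons_iff_affine.mp hE W hW)
  obtain ⟨B, hB, hzB, hBE⟩ := exists_isConstructible_subset ho hz
  exact ⟨B, ⟨hB.isLocallyConstructible, hBE⟩, hzB⟩

theorem proCons_preimage (f : X ⟶ Y) {E : Set Y} (hE : ProCons.IsProConstructible E) :
    ProCons.IsProConstructible (f ⁻¹' E) := by
  rw [isProConstructible_iff_indCons_compl] at hE ⊢
  exact indCons_preimage f hE

theorem isLocallyConstructible_iff_pro_ind {E : Set Y} :
    IsLocallyConstructible E ↔ ProCons.IsProConstructible E ∧ ProCons.IsIndConstructible E := by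
  constructor
  · intro h
    refine ⟨fun y => ?_, fun y => ?_⟩ <;>
    · refine ⟨Set.univ, isOpen_univ, trivial, {Subtype.val ⁻¹' E}, ?_, by simp⟩
      rintro T rfl
      exact h.preimage_of_isOpenEmbedding isOpen_univ.isOpenEmbedding_subtypeVal
  · rintro ⟨hp, hi⟩ y
    obtain ⟨W, hW, hyW, -⟩ := exists_isAffineOpen_mem_and_subset (U := (⊤ : Y.Opens)) (Opens.mem_top y)
    obtain ⟨_, _, _, _⟩ := affine_instances hW
    refine ⟨W, W.2.mem_nhds hyW, W.2, ?_⟩
    have h := isConstructible_inter_of_isClopen (indCons_iff_affine.mp hi W hW)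
      ((proCons_iff_affine.mp hp W hW).1) isOpen_univ isCompact_univ
    rwa [Set.inter_univ] at h

/-- A finite family of affine opens covering an affine open of the target. -/
theorem exists_affine_cover_over (f : X ⟶ Y) [Surjective f]
    (hf : QuasiCompact f ∨ LocallyOfFinitePresentation f) {W : Y.Opens} (hW : IsAffineOpen W) :
    ∃ t : Finset X.Opens, (∀ V ∈ t, IsAffineOpen V ∧ V ≤ f ⁻¹ᵁ W) ∧ ∀ y ∈ W, ∃ V ∈ t, ∃ x ∈ V, f x = y := by
  classical
  have hcov : ∀ x : X, f x ∈ W → ∃ V : X.Opens, IsAffineOpen V ∧ x ∈ V ∧ V ≤ f ⁻¹ᵁ W := fun x hx =>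
    exists_isAffineOpen_mem_and_subset (U := f ⁻¹ᵁ W) (x := x) hx
  rcases hf with hq | hl
  · choose V hV hxV hVW using fun x : {x : X // f x ∈ W} => hcov x.1 x.2
    obtain ⟨t, ht⟩ := (f.isCompact_preimage (U := W) hW.isCompact).elim_finite_subcover (fun x => (V x : Set X))
      (fun x => (V x).2) (fun x hx => Set.mem_iUnion.mpr ⟨⟨x, hx⟩, hxV ⟨x, hx⟩⟩)
    refine ⟨t.image V, ?_, fun y hy => ?_⟩
    · intro U hU
      obtain ⟨x, -, rfl⟩ := Finset.mem_image.mp hU
      exact ⟨hV x, hVW x⟩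
    · obtain ⟨x, rfl⟩ := f.surjective y
      obtain ⟨i, hi, hxi⟩ := Set.mem_iUnion₂.mp (ht hy)
      exact ⟨V i, Finset.mem_image_of_mem V hi, x, hxi, rfl⟩
  · choose V hV hxV hVW using fun x : {x : X // f x ∈ W} => hcov x.1 x.2
    obtain ⟨_, _, _, _⟩ := affine_instances hW
    haveI : IsAffine W.toScheme := hW
    have ho : ∀ x, IsOpen[constructibleTopology ↥(W : Set Y)]
        (Set.range fun z : ↥(V x : Set X) => (⟨f z.1, hVW x z.2⟩ : ↥(W : Set Y))) := by
      intro x
      haveI : CompactSpace (V x).toScheme := isCompact_iff_compactSpace.mp (hV x).isCompact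
      haveI : QuasiCompact (f.resLE W (V x) (hVW x)) := HasAffineProperty.iff_of_isAffine.mpr ‹_›
      have h : ⇑(f.resLE W (V x) (hVW x)) = fun z : ↥(V x : Set X) => (⟨f z.1, hVW x z.2⟩ : ↥(W : Set Y)) :=
        funext fun z => Subtype.ext (f.coe_resLE_apply (e := hVW x) z)
      have h2 := (f.resLE W (V x) (hVW x)).isLocallyConstructible_image
        (IsConstructible.univ.isLocallyConstructible)
      rw [Set.image_univ, h] at h2
      exact (isClopen_of_isLocallyConstructible h2).1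
    obtain ⟨t, ht⟩ := @IsCompact.elim_finite_subcover ↥(W : Set Y) (constructibleTopology _) _ _
      (isCompact_cons isOpen_univ isCompact_univ) _ ho (fun y _ => by
        obtain ⟨x, hx⟩ := f.surjective y.1
        exact Set.mem_iUnion.mpr ⟨⟨x, hx ▸ y.2⟩, ⟨x, hxV _⟩, Subtype.ext hx⟩)
    refine ⟨t.image V, ?_, fun y hy => ?_⟩
    · intro U hU
      obtain ⟨x, -, rfl⟩ := Finset.mem_image.mp hU
      exact ⟨hV x, hVW x⟩
    · obtain ⟨i, hi, z, hz⟩ := Set.mem_iUnion₂.mp (ht (Set.mem_univ (⟨y, hy⟩ : ↥(W : Set Y))))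
      exact ⟨V i, Finset.mem_image_of_mem V hi, z.1, z.2, congrArg Subtype.val hz⟩

theorem proCons_of_preimage (f : X ⟶ Y) [Surjective f]
    (hf : QuasiCompact f ∨ LocallyOfFinitePresentation f) {E : Set Y}
    (hE : ProCons.IsProConstructible (f ⁻¹' E)) : ProCons.IsProConstructible E := by
  rw [proCons_iff_affine]
  intro W hW
  obtain ⟨_, _, _, _⟩ := affine_instances hW
  obtain ⟨t, ht, hcov⟩ := exists_affine_cover_over f hf hW
  have heq : (Subtype.val ⁻¹' E : Set ↥(W : Set Y)) = ⋃ V : t,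
      (fun x : ↥((V.1 : X.Opens) : Set X) => (⟨f x.1, (ht V.1 V.2).2 x.2⟩ : ↥(W : Set Y))) ''
        (Subtype.val ⁻¹' (f ⁻¹' E)) := by
    refine Set.Subset.antisymm (fun y hy => ?_) (Set.iUnion_subset fun V => ?_)
    · obtain ⟨V, hV, x, hx, hxy⟩ := hcov y.1 y.2
      exact Set.mem_iUnion.mpr ⟨⟨V, hV⟩, ⟨x, hx⟩, show f x ∈ E from hxy.symm ▸ hy, Subtype.ext hxy⟩
    · rintro _ ⟨x, hx, rfl⟩
      exact hx
  rw [heq]
  refine @isClosed_iUnion_of_finite _ _ (constructibleTopology ↥(W : Set Y)) _ _ fun V => ?_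
  obtain ⟨_, _, _, _⟩ := affine_instances (ht V.1 V.2).1
  have hcl := proCons_iff_affine.mp hE V.1 (ht V.1 V.2).1
  have hcp := @IsCompact.of_isClosed_subset _ (constructibleTopology ↥((V.1 : X.Opens) : Set X)) _ _
    (isCompact_cons isOpen_univ isCompact_univ) hcl (Set.subset_univ _)
  exact @IsCompact.isClosed ↥(W : Set Y) (constructibleTopology _) t2Space_cons _
    (@IsCompact.image _ _ (constructibleTopology _) (constructibleTopology _) _ _ hcp
      (continuous_cons_resLE f hW (ht V.1 V.2).1 (ht V.1 V.2).2))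

theorem indCons_of_preimage (f : X ⟶ Y) [Surjective f]
    (hf : QuasiCompact f ∨ LocallyOfFinitePresentation f) {E : Set Y}
    (hE : ProCons.IsIndConstructible (f ⁻¹' E)) : ProCons.IsIndConstructible E := by
  have h := proCons_of_preimage f hf (E := Eᶜ) (by
    rw [isProConstructible_iff_indCons_compl, ← Set.preimage_compl, compl_compl]; exact hE)
  rwa [isProConstructible_iff_indCons_compl, compl_compl] at h

end Groth.Agent.ConsTop
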